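import Mathlib

/-!
# S3086, section 2 (p odd) of helper26's proof: the `PODD` module

Ring-theoretic core.  `E` is a ring in which `2` is a unit (think `End_{F_p}(V)`, `p` odd),
`K ≤ Eˣ` a subgroup, `a q : Eˣ` with `q a = a q`, `q` quadratic (`(q-1)^2 = 0`), `q` normalizing `K`,
`K = [K,q]`, `K` commuting elementwise with `a K a⁻¹`, and `(a-1)(q-1) = 0`
(`im (q-1) ≤ C_V(a)`).  Then `(g''-1)(g'-1)(g-1) = 0` for all `g g' g'' ∈ K`; in characteristic `p ≥ 3`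
every element of `K` has order dividing `p`.
-/

set_option autoImplicit false

namespace Cfsg.Agent.Lib.Helper61.PGV

section RingCore

variable {E : Type*} [Ring E]

/-- A quadratic unit has inverse `2 - g`. -/
theorem inv_eq_of_quad (g : Eˣ) (hg : ((g : E) - 1) * ((g : E) - 1) = 0) :
    ((g⁻¹ : Eˣ) : E) = 2 - (g : E) := by
  have h : (g : E) * (2 - (g : E)) = 1 := by
    have h1 : ((g : E) - 1) * ((g : E) - 1) = 1 - (g : E) * (2 - (g : E)) := by noncomm_ring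
    rw [hg] at h1
    exact (sub_eq_zero.mp h1.symm).symm
  exact (Units.inv_eq_of_mul_eq_one_right h)

/-- A conjugate of a quadratic unit is quadratic. -/
theorem quad_conj (q y : Eˣ) (hq : ((q : E) - 1) * ((q : E) - 1) = 0) :
    (((y⁻¹ * q * y : Eˣ) : E) - 1) * (((y⁻¹ * q * y : Eˣ) : E) - 1) = 0 := by
  have h1 : ((y⁻¹ * q * y : Eˣ) : E) - 1 = ((y⁻¹ : Eˣ) : E) * ((q : E) - 1) * (y : E) := by
    push_cast
    have : ((y⁻¹ : Eˣ) : E) * (y : E) = 1 := by simp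
    calc ((y⁻¹ : Eˣ) : E) * (q : E) * (y : E) - 1
        = ((y⁻¹ : Eˣ) : E) * (q : E) * (y : E) - ((y⁻¹ : Eˣ) : E) * (y : E) := by rw [this]
      _ = ((y⁻¹ : Eˣ) : E) * ((q : E) - 1) * (y : E) := by noncomm_ring
  rw [h1]
  have h2 : (y : E) * ((y⁻¹ : Eˣ) : E) = 1 := by simp
  calc ((y⁻¹ : Eˣ) : E) * ((q : E) - 1) * (y : E) * (((y⁻¹ : Eˣ) : E) * ((q : E) - 1) * (y : E))
      = ((y⁻¹ : Eˣ) : E) * ((q : E) - 1) * ((y : E) * ((y⁻¹ : Eˣ) : E)) * ((q : E) - 1) * (y : E) := by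
        noncomm_ring
    _ = ((y⁻¹ : Eˣ) : E) * (((q : E) - 1) * ((q : E) - 1)) * (y : E) := by rw [h2]; noncomm_ring
    _ = 0 := by rw [hq]; simp

/-- The identity (ID): `q, qu, qw, quw` quadratic, `u w = w u`, `2` a unit ⟹ `(u-1)(w-1) = 0`. -/
theorem quad_id (h2 : IsUnit (2 : E)) (q u w : Eˣ) (huw : u * w = w * u)
    (hq : ((q : E) - 1) * ((q : E) - 1) = 0)
    (hqu : (((q * u : Eˣ) : E) - 1) * (((q * u : Eˣ) : E) - 1) = 0)
    (hqw : (((q * w : Eˣ) : E) - 1) * (((q * w : Eˣ) : E) - 1) = 0)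
    (hquw : (((q * (u * w) : Eˣ) : E) - 1) * (((q * (u * w) : Eˣ) : E) - 1) = 0) :
    ((u : E) - 1) * ((w : E) - 1) = 0 := by
  have hqi := inv_eq_of_quad q hq
  -- key: for a unit `t` with `q t` quadratic: `t q t = 2 t - 2 + q`
  have key : ∀ t : Eˣ, (((q * t : Eˣ) : E) - 1) * (((q * t : Eˣ) : E) - 1) = 0 →
      (t : E) * (q : E) * (t : E) = 2 * (t : E) - 2 + (q : E) := by
    intro t ht
    have h1 : ((q : E) * (t : E) - 1) * ((q : E) * (t : E) - 1) = 0 := by simpa using ht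
    have h3 : ((q⁻¹ : Eˣ) : E) * (((q : E) * (t : E) - 1) * ((q : E) * (t : E) - 1)) = 0 := by
      rw [h1]; simp
    have h4 : ((q⁻¹ : Eˣ) : E) * (((q : E) * (t : E) - 1) * ((q : E) * (t : E) - 1))
        = (((q⁻¹ : Eˣ) : E) * (q : E)) * (t : E) * (q : E) * (t : E)
          - 2 * ((((q⁻¹ : Eˣ) : E) * (q : E)) * (t : E)) + ((q⁻¹ : Eˣ) : E) := by noncomm_ring
    rw [h4] at h3
    have h5 : ((q⁻¹ : Eˣ) : E) * (q : E) = 1 := by simp
    rw [h5, hqi] at h3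
    have h6 : (t : E) * (q : E) * (t : E) - (2 * (t : E) - 2 + (q : E))
        = 1 * (t : E) * (q : E) * (t : E) - 2 * (1 * (t : E)) + (2 - (q : E)) := by noncomm_ring
    exact sub_eq_zero.mp (h6.trans h3)
  have hA := key u hqu
  have hB := key w hqw
  have hC := key (u * w) hquw
  have hcomm : (u : E) * (w : E) = (w : E) * (u : E) := by
    have := congrArg (fun t : Eˣ => (t : E)) huw
    simpa using this
  have hC' : (w : E) * ((u : E) * (q : E) * (u : E)) * (w : E) = 2 * ((w : E) * (u : E)) - 2 + (q : E) := by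
    have h1 : ((u * w : Eˣ) : E) = (u : E) * (w : E) := by simp
    rw [h1] at hC
    calc (w : E) * ((u : E) * (q : E) * (u : E)) * (w : E)
        = ((w : E) * (u : E)) * (q : E) * ((u : E) * (w : E)) := by noncomm_ring
      _ = ((u : E) * (w : E)) * (q : E) * ((u : E) * (w : E)) := by rw [hcomm]
      _ = 2 * ((u : E) * (w : E)) - 2 + (q : E) := hC
      _ = 2 * ((w : E) * (u : E)) - 2 + (q : E) := by rw [hcomm]
  have h7 : 2 * ((w : E) * (((u : E) - 1) * ((w : E) - 1))) = 0 := by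
    have e1 : 2 * ((w : E) * (((u : E) - 1) * ((w : E) - 1)))
        = (w : E) * (2 * (u : E) - 2 + (q : E)) * (w : E) - (w : E) * (q : E) * (w : E)
          + 2 * (w : E) - 2 * ((w : E) * (u : E)) := by noncomm_ring
    rw [e1, ← hA, hC', hB]; noncomm_ring
  have h8 : (w : E) * (((u : E) - 1) * ((w : E) - 1)) = 0 := by
    obtain ⟨t, ht⟩ := h2
    have : ((t⁻¹ : Eˣ) : E) * (2 * ((w : E) * (((u : E) - 1) * ((w : E) - 1)))) = 0 := by
      rw [h7]; simp
    rw [← ht, ← mul_assoc] at this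
    simpa using this
  have h9 : ((w⁻¹ : Eˣ) : E) * ((w : E) * (((u : E) - 1) * ((w : E) - 1))) = 0 := by
    rw [h8]; simp
  rw [← mul_assoc] at h9
  simpa using h9

end RingCore

section Main

variable {E : Type*} [Ring E]

/-- `(g - 1) * X = 0` is inherited by products and inverses of units `g` (left annihilation). -/
theorem left_ann_closure (S : Set Eˣ) (X : E) (hS : ∀ g ∈ S, ((g : E) - 1) * X = 0) :
    ∀ g ∈ Subgroup.closure S, ((g : E) - 1) * X = 0 := by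
  intro g hg
  induction hg using Subgroup.closure_induction with
  | mem x hx => exact hS x hx
  | one => simp
  | mul x y _ _ hx hy =>
    have : ((x * y : Eˣ) : E) - 1 = (x : E) * ((y : E) - 1) + ((x : E) - 1) := by
      push_cast; noncomm_ring
    rw [this, add_mul, mul_assoc, hy, hx]; simp
  | inv x _ hx =>
    have h1 : ((x⁻¹ : Eˣ) : E) * (x : E) = 1 := by simp
    have : ((x⁻¹ : Eˣ) : E) - 1 = -(((x⁻¹ : Eˣ) : E) * ((x : E) - 1)) := by
      rw [mul_sub, h1]; noncomm_ring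
    rw [this, neg_mul, mul_assoc, hx]; simp

/-- `X * (g - 1) = 0` is inherited by products and inverses of units `g` (right annihilation). -/
theorem right_ann_closure (S : Set Eˣ) (X : E) (hS : ∀ g ∈ S, X * ((g : E) - 1) = 0) :
    ∀ g ∈ Subgroup.closure S, X * ((g : E) - 1) = 0 := by
  intro g hg
  induction hg using Subgroup.closure_induction with
  | mem x hx => exact hS x hx
  | one => simp
  | mul x y _ _ hx hy =>
    have : ((x * y : Eˣ) : E) - 1 = ((x : E) - 1) * (y : E) + ((y : E) - 1) := by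
      push_cast; noncomm_ring
    rw [this, mul_add, ← mul_assoc, hx, hy]; simp
  | inv x _ hx =>
    have h1 : (x : E) * ((x⁻¹ : Eˣ) : E) = 1 := by simp
    have : ((x⁻¹ : Eˣ) : E) - 1 = -(((x : E) - 1) * ((x⁻¹ : Eˣ) : E)) := by
      rw [sub_mul, h1]; noncomm_ring
    rw [this, mul_neg, ← mul_assoc, hx]; simp

/-- conjugation formula `(a y a⁻¹ - 1) a = a (y - 1)`. -/
theorem conj_sub_one_mul (a y : Eˣ) :
    (((a * y * a⁻¹ : Eˣ) : E) - 1) * (a : E) = (a : E) * ((y : E) - 1) := by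
  have h1 : ((a⁻¹ : Eˣ) : E) * (a : E) = 1 := by simp
  push_cast
  calc ((a : E) * (y : E) * ((a⁻¹ : Eˣ) : E) - 1) * (a : E)
      = (a : E) * (y : E) * (((a⁻¹ : Eˣ) : E) * (a : E)) - (a : E) := by noncomm_ring
    _ = (a : E) * ((y : E) - 1) := by rw [h1]; noncomm_ring

/-- **PODD, ring form.**  See the file header. -/
theorem podd_ring (h2 : IsUnit (2 : E)) (K : Subgroup Eˣ) (a q : Eˣ)
    (hcomm : ∀ x ∈ K, ∀ y ∈ K, x * (a * y * a⁻¹) = (a * y * a⁻¹) * x)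
    (hqa : q * a = a * q)
    (hquad : ((q : E) - 1) * ((q : E) - 1) = 0)
    (hqN : ∀ x ∈ K, q * x * q⁻¹ ∈ K) (hqN' : ∀ x ∈ K, q⁻¹ * x * q ∈ K)
    (hgen : K ≤ Subgroup.closure {u | ∃ x ∈ K, u = q⁻¹ * x⁻¹ * q * x})
    (hT4 : ((a : E) - 1) * ((q : E) - 1) = 0) :
    ∀ g ∈ K, ∀ g' ∈ K, ∀ g'' ∈ K, ((g'' : E) - 1) * ((g' : E) - 1) * ((g : E) - 1) = 0 := by
  -- generators lie in `K`
  have hu_mem : ∀ x ∈ K, q⁻¹ * x⁻¹ * q * x ∈ K := by
    intro x hx
    have := K.mul_mem (hqN' x⁻¹ (K.inv_mem hx)) hx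
    simpa [mul_assoc] using this
  -- a commutes with q⁻¹
  have hqa' : q⁻¹ * a = a * q⁻¹ := by
    have hc : Commute q a := hqa
    exact hc.inv_left.eq
  -- Step 1: generators
  have step1 : ∀ x ∈ K, ∀ y ∈ K,
      (((q⁻¹ * x⁻¹ * q * x : Eˣ) : E) - 1)
        * (((a * (q⁻¹ * y⁻¹ * q * y) * a⁻¹ : Eˣ) : E) - 1) = 0 := by
    intro x hx y hy
    set u : Eˣ := q⁻¹ * x⁻¹ * q * x with hu
    set u' : Eˣ := q⁻¹ * y⁻¹ * q * y with hu'
    set z : Eˣ := a * y * a⁻¹ with hz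
    set w : Eˣ := a * u' * a⁻¹ with hw
    have huK : u ∈ K := hu_mem x hx
    have hu'K : u' ∈ K := hu_mem y hy
    have huw : u * w = w * u := hcomm u huK u' hu'K
    have huz : u * z = z * u := hcomm u huK y hy
    have hw2 : w = q⁻¹ * z⁻¹ * q * z := by
      rw [hw, hu', hz]
      calc a * (q⁻¹ * y⁻¹ * q * y) * a⁻¹
          = (a * q⁻¹) * y⁻¹ * q * y * a⁻¹ := by group
        _ = (q⁻¹ * a) * y⁻¹ * q * y * a⁻¹ := by rw [hqa']
        _ = q⁻¹ * (a * y⁻¹ * a⁻¹) * (a * q) * y * a⁻¹ := by group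
        _ = q⁻¹ * (a * y⁻¹ * a⁻¹) * (q * a) * y * a⁻¹ := by rw [hqa]
        _ = q⁻¹ * (a * y * a⁻¹)⁻¹ * q * (a * y * a⁻¹) := by group
    have e1 : q * u = x⁻¹ * q * x := by rw [hu]; group
    have e2 : q * w = z⁻¹ * q * z := by rw [hw2]; group
    have e3 : q * (u * w) = (x * z)⁻¹ * q * (x * z) := by
      calc q * (u * w) = (q * w) * u := by rw [huw]; group
        _ = z⁻¹ * q * (z * u) := by rw [e2]; group
        _ = z⁻¹ * q * (u * z) := by rw [huz]
        _ = z⁻¹ * (q * u) * z := by group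
        _ = (x * z)⁻¹ * q * (x * z) := by rw [e1]; group
    refine quad_id h2 q u w huw hquad ?_ ?_ ?_
    · rw [e1]; exact quad_conj q x hquad
    · rw [e2]; exact quad_conj q z hquad
    · rw [e3]; exact quad_conj q (x * z) hquad
  -- Step 2: first variable
  have step2 : ∀ g ∈ K, ∀ y ∈ K,
      ((g : E) - 1) * (((a * (q⁻¹ * y⁻¹ * q * y) * a⁻¹ : Eˣ) : E) - 1) = 0 := by
    intro g hg y hy
    refine left_ann_closure {u | ∃ x ∈ K, u = q⁻¹ * x⁻¹ * q * x} _ ?_ g (hgen hg)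
    rintro u ⟨x, hx, rfl⟩
    exact step1 x hx y hy
  -- Step 3: second variable  (*)
  have star : ∀ g ∈ K, ∀ y ∈ K, ((g : E) - 1) * (((a * y * a⁻¹ : Eˣ) : E) - 1) = 0 := by
    intro g hg y hy
    -- transport: work with the set of `a u a⁻¹`
    have h1 : ∀ t ∈ Subgroup.closure {u | ∃ x ∈ K, u = q⁻¹ * x⁻¹ * q * x},
        ((g : E) - 1) * (((a * t * a⁻¹ : Eˣ) : E) - 1) = 0 := by
      intro t ht
      have h2' : (MulAut.conj a) t ∈ Subgroup.closure
          ((fun t => (MulAut.conj a) t) '' {u | ∃ x ∈ K, u = q⁻¹ * x⁻¹ * q * x}) := by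
        have := MonoidHom.map_closure (MulAut.conj a).toMonoidHom
          {u | ∃ x ∈ K, u = q⁻¹ * x⁻¹ * q * x}
        have h3 : (MulAut.conj a) t ∈ (Subgroup.closure
            {u | ∃ x ∈ K, u = q⁻¹ * x⁻¹ * q * x}).map (MulAut.conj a).toMonoidHom :=
          ⟨t, ht, rfl⟩
        rw [this] at h3
        exact h3
      have h4 := right_ann_closure
        ((fun t => (MulAut.conj a) t) '' {u | ∃ x ∈ K, u = q⁻¹ * x⁻¹ * q * x}) ((g : E) - 1) ?_
        _ h2'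
      · simpa [MulAut.conj_apply] using h4
      · rintro _ ⟨u, ⟨x, hx, rfl⟩, rfl⟩
        simpa [MulAut.conj_apply] using step2 g hg x hx
    exact h1 y (hgen hy)
  -- (*) reversed, by commutation
  have star' : ∀ g ∈ K, ∀ y ∈ K, (((a * y * a⁻¹ : Eˣ) : E) - 1) * ((g : E) - 1) = 0 := by
    intro g hg y hy
    have hc : (g : E) * ((a * y * a⁻¹ : Eˣ) : E) = ((a * y * a⁻¹ : Eˣ) : E) * (g : E) := by
      have := congrArg (fun t : Eˣ => (t : E)) (hcomm g hg y hy)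
      simpa using this
    have h1 := star g hg y hy
    have : (((a * y * a⁻¹ : Eˣ) : E) - 1) * ((g : E) - 1)
        = ((g : E) - 1) * (((a * y * a⁻¹ : Eˣ) : E) - 1) := by
      rw [sub_mul, mul_sub, mul_sub, sub_mul, mul_sub, mul_sub, hc]; noncomm_ring
    rw [this, h1]
  -- Step 4 (**): (g'-1)(q-1)(g-1) = 0
  have hT4' : (a : E) * ((q : E) - 1) = (q : E) - 1 := by
    have : ((a : E) - 1) * ((q : E) - 1) = (a : E) * ((q : E) - 1) - ((q : E) - 1) := by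
      noncomm_ring
    rw [this] at hT4
    exact sub_eq_zero.mp hT4
  have star2 : ∀ g ∈ K, ∀ g' ∈ K, ((g' : E) - 1) * ((q : E) - 1) * ((g : E) - 1) = 0 := by
    intro g hg g' hg'
    have hgq : q * g * q⁻¹ ∈ K := hqN g hg
    have e1 : ((q : E) - 1) * ((g : E) - 1)
        = (((q * g * q⁻¹ : Eˣ) : E) - 1) * (q : E) - ((g : E) - 1) := by
      have h1 : ((q⁻¹ : Eˣ) : E) * (q : E) = 1 := by simp
      push_cast
      calc ((q : E) - 1) * ((g : E) - 1)
          = (q : E) * (g : E) * 1 - (q : E) - ((g : E) - 1) := by noncomm_ring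
        _ = (q : E) * (g : E) * (((q⁻¹ : Eˣ) : E) * (q : E)) - (q : E) - ((g : E) - 1) := by rw [h1]
        _ = ((q : E) * (g : E) * ((q⁻¹ : Eˣ) : E) - 1) * (q : E) - ((g : E) - 1) := by noncomm_ring
    have e2 : ((q : E) - 1) * ((g : E) - 1)
        = (((a * (q * g * q⁻¹) * a⁻¹ : Eˣ) : E) - 1) * ((a : E) * (q : E))
          - (((a * g * a⁻¹ : Eˣ) : E) - 1) * (a : E) := by
      calc ((q : E) - 1) * ((g : E) - 1)
          = ((a : E) * ((q : E) - 1)) * ((g : E) - 1) := by rw [hT4']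
        _ = (a : E) * (((q : E) - 1) * ((g : E) - 1)) := by rw [mul_assoc]
        _ = (a : E) * ((((q * g * q⁻¹ : Eˣ) : E) - 1) * (q : E) - ((g : E) - 1)) := by rw [e1]
        _ = ((a : E) * (((q * g * q⁻¹ : Eˣ) : E) - 1)) * (q : E) - (a : E) * ((g : E) - 1) := by
            noncomm_ring
        _ = _ := by
            rw [← conj_sub_one_mul a (q * g * q⁻¹), ← conj_sub_one_mul a g]; noncomm_ring
    have s1 := star g' hg' (q * g * q⁻¹) hgq
    have s2 := star g' hg' g hg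
    calc ((g' : E) - 1) * ((q : E) - 1) * ((g : E) - 1)
        = ((g' : E) - 1) * (((q : E) - 1) * ((g : E) - 1)) := by rw [mul_assoc]
      _ = (((g' : E) - 1) * (((a * (q * g * q⁻¹) * a⁻¹ : Eˣ) : E) - 1)) * ((a : E) * (q : E))
          - (((g' : E) - 1) * (((a * g * a⁻¹ : Eˣ) : E) - 1)) * (a : E) := by
          rw [e2, mul_sub]; simp only [mul_assoc]
      _ = 0 := by rw [s1, s2]; simp
  -- Step 5: generators in the middle
  have step5 : ∀ x ∈ K, ∀ g ∈ K, ∀ g' ∈ K,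
      ((g' : E) - 1) * (((q⁻¹ * x⁻¹ * q * x : Eˣ) : E) - 1) * ((g : E) - 1) = 0 := by
    intro x hx g hg g' hg'
    have hqi : ((q⁻¹ : Eˣ) : E) * (q : E) = 1 := by simp
    have hqi' : (q : E) * ((q⁻¹ : Eˣ) : E) = 1 := by simp
    have hxi : ((x⁻¹ : Eˣ) : E) * (x : E) = 1 := by simp
    have hxi' : (x : E) * ((x⁻¹ : Eˣ) : E) = 1 := by simp
    -- u - 1 = q⁻¹ (x⁻¹ (q-1) x - (q-1))
    have e1 : ((q⁻¹ * x⁻¹ * q * x : Eˣ) : E) - 1
        = ((q⁻¹ : Eˣ) : E) * (((x⁻¹ : Eˣ) : E) * ((q : E) - 1) * (x : E) - ((q : E) - 1)) := by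
      push_cast
      calc ((q⁻¹ : Eˣ) : E) * ((x⁻¹ : Eˣ) : E) * (q : E) * (x : E) - 1
          = ((q⁻¹ : Eˣ) : E) * ((x⁻¹ : Eˣ) : E) * (q : E) * (x : E)
              - ((q⁻¹ : Eˣ) : E) * (((x⁻¹ : Eˣ) : E) * (x : E)) + ((q⁻¹ : Eˣ) : E)
              - ((q⁻¹ : Eˣ) : E) * (q : E) := by rw [hxi, hqi]; noncomm_ring
        _ = _ := by noncomm_ring
    -- (g'-1) q⁻¹ = q⁻¹ (q g' q⁻¹ - 1)
    have e2 : ((g' : E) - 1) * ((q⁻¹ : Eˣ) : E)
        = ((q⁻¹ : Eˣ) : E) * (((q * g' * q⁻¹ : Eˣ) : E) - 1) := by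
      push_cast
      calc ((g' : E) - 1) * ((q⁻¹ : Eˣ) : E)
          = 1 * (g' : E) * ((q⁻¹ : Eˣ) : E) - ((q⁻¹ : Eˣ) : E) := by noncomm_ring
        _ = (((q⁻¹ : Eˣ) : E) * (q : E)) * (g' : E) * ((q⁻¹ : Eˣ) : E) - ((q⁻¹ : Eˣ) : E) := by
            rw [hqi]
        _ = _ := by noncomm_ring
    set h : Eˣ := q * g' * q⁻¹ with hh
    have hhK : h ∈ K := hqN g' hg'
    -- (h-1) x⁻¹ = x⁻¹ (x h x⁻¹ - 1)
    have e3 : ((h : E) - 1) * ((x⁻¹ : Eˣ) : E)
        = ((x⁻¹ : Eˣ) : E) * (((x * h * x⁻¹ : Eˣ) : E) - 1) := by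
      push_cast
      calc ((h : E) - 1) * ((x⁻¹ : Eˣ) : E)
          = 1 * (h : E) * ((x⁻¹ : Eˣ) : E) - ((x⁻¹ : Eˣ) : E) := by noncomm_ring
        _ = (((x⁻¹ : Eˣ) : E) * (x : E)) * (h : E) * ((x⁻¹ : Eˣ) : E) - ((x⁻¹ : Eˣ) : E) := by
            rw [hxi]
        _ = _ := by noncomm_ring
    have hxh : x * h * x⁻¹ ∈ K := K.mul_mem (K.mul_mem hx hhK) (K.inv_mem hx)
    -- x (g - 1) = (x g - 1) - (x - 1)
    have e4 : (x : E) * ((g : E) - 1) = (((x * g : Eˣ) : E) - 1) - ((x : E) - 1) := by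
      push_cast; noncomm_ring
    have hxg : x * g ∈ K := K.mul_mem hx hg
    calc ((g' : E) - 1) * (((q⁻¹ * x⁻¹ * q * x : Eˣ) : E) - 1) * ((g : E) - 1)
        = (((g' : E) - 1) * ((q⁻¹ : Eˣ) : E))
            * (((x⁻¹ : Eˣ) : E) * ((q : E) - 1) * (x : E) - ((q : E) - 1)) * ((g : E) - 1) := by
          rw [e1]; noncomm_ring
      _ = ((q⁻¹ : Eˣ) : E) * ((((h : E) - 1) * ((x⁻¹ : Eˣ) : E)) * ((q : E) - 1)
            * ((x : E) * ((g : E) - 1))
            - ((h : E) - 1) * ((q : E) - 1) * ((g : E) - 1)) := by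
          rw [e2]; noncomm_ring
      _ = ((q⁻¹ : Eˣ) : E) * (((x⁻¹ : Eˣ) : E)
            * ((((x * h * x⁻¹ : Eˣ) : E) - 1) * ((q : E) - 1) * (((x * g : Eˣ) : E) - 1)
              - (((x * h * x⁻¹ : Eˣ) : E) - 1) * ((q : E) - 1) * ((x : E) - 1))
            - ((h : E) - 1) * ((q : E) - 1) * ((g : E) - 1)) := by
          rw [e3, e4]; noncomm_ring
      _ = 0 := by
          rw [star2 (x * g) hxg (x * h * x⁻¹) hxh, star2 x hx (x * h * x⁻¹) hxh,
            star2 g hg h hhK]; simp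
  -- Step 6: closure in the middle variable
  intro g hg g' hg' g'' hg''
  -- the set of middle elements
  have hmid : ∀ t ∈ Subgroup.closure {u | ∃ x ∈ K, u = q⁻¹ * x⁻¹ * q * x},
      t ∈ K ∧ ∀ g ∈ K, ∀ g'' ∈ K, ((g'' : E) - 1) * ((t : E) - 1) * ((g : E) - 1) = 0 := by
    intro t ht
    induction ht using Subgroup.closure_induction with
    | mem u hu =>
      obtain ⟨x, hx, rfl⟩ := hu
      exact ⟨hu_mem x hx, fun g hg g'' hg'' => step5 x hx g hg g'' hg''⟩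
    | one => exact ⟨K.one_mem, fun g _ g'' _ => by simp⟩
    | mul s t _ _ hs ht =>
      refine ⟨K.mul_mem hs.1 ht.1, fun g hg g'' hg'' => ?_⟩
      -- (st - 1) = s (t - 1) + (s - 1);  (g''-1) s = s (s⁻¹ g'' s - 1)
      have hsi : (s : E) * ((s⁻¹ : Eˣ) : E) = 1 := by simp
      have e1 : ((g'' : E) - 1) * (s : E) = (s : E) * (((s⁻¹ * g'' * s : Eˣ) : E) - 1) := by
        push_cast
        calc ((g'' : E) - 1) * (s : E) = 1 * (g'' : E) * (s : E) - (s : E) := by noncomm_ring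
          _ = ((s : E) * ((s⁻¹ : Eˣ) : E)) * (g'' : E) * (s : E) - (s : E) := by rw [hsi]
          _ = _ := by noncomm_ring
      have hK' : s⁻¹ * g'' * s ∈ K := K.mul_mem (K.mul_mem (K.inv_mem hs.1) hg'') hs.1
      calc ((g'' : E) - 1) * (((s * t : Eˣ) : E) - 1) * ((g : E) - 1)
          = (((g'' : E) - 1) * (s : E)) * ((t : E) - 1) * ((g : E) - 1)
            + ((g'' : E) - 1) * ((s : E) - 1) * ((g : E) - 1) := by push_cast; noncomm_ring
        _ = (s : E) * ((((s⁻¹ * g'' * s : Eˣ) : E) - 1) * ((t : E) - 1) * ((g : E) - 1))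
            + ((g'' : E) - 1) * ((s : E) - 1) * ((g : E) - 1) := by rw [e1]; noncomm_ring
        _ = 0 := by rw [ht.2 g hg _ hK', hs.2 g hg g'' hg'']; simp
    | inv s _ hs =>
      refine ⟨K.inv_mem hs.1, fun g hg g'' hg'' => ?_⟩
      have hsi : ((s⁻¹ : Eˣ) : E) * (s : E) = 1 := by simp
      have e0 : ((s⁻¹ : Eˣ) : E) - 1 = -(((s⁻¹ : Eˣ) : E) * ((s : E) - 1)) := by
        rw [mul_sub, hsi]; noncomm_ring
      have e1 : ((g'' : E) - 1) * ((s⁻¹ : Eˣ) : E)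
          = ((s⁻¹ : Eˣ) : E) * (((s * g'' * s⁻¹ : Eˣ) : E) - 1) := by
        push_cast
        calc ((g'' : E) - 1) * ((s⁻¹ : Eˣ) : E)
            = 1 * (g'' : E) * ((s⁻¹ : Eˣ) : E) - ((s⁻¹ : Eˣ) : E) := by noncomm_ring
          _ = (((s⁻¹ : Eˣ) : E) * (s : E)) * (g'' : E) * ((s⁻¹ : Eˣ) : E) - ((s⁻¹ : Eˣ) : E) := by
              rw [hsi]
          _ = _ := by noncomm_ring
      have hK' : s * g'' * s⁻¹ ∈ K := K.mul_mem (K.mul_mem hs.1 hg'') (K.inv_mem hs.1)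
      calc ((g'' : E) - 1) * (((s⁻¹ : Eˣ) : E) - 1) * ((g : E) - 1)
          = -((((g'' : E) - 1) * ((s⁻¹ : Eˣ) : E)) * ((s : E) - 1) * ((g : E) - 1)) := by
            rw [e0]; noncomm_ring
        _ = -(((s⁻¹ : Eˣ) : E) * ((((s * g'' * s⁻¹ : Eˣ) : E) - 1) * ((s : E) - 1) * ((g : E) - 1))) := by
            rw [e1]; noncomm_ring
        _ = 0 := by rw [hs.2 g hg _ hK']; simp
  exact (hmid g' (hgen hg')).2 g hg g'' hg''

end Main

section Hom

variable {E : Type*} [Ring E] {G : Type*} [Group G]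

/-- **PODD through a homomorphism** `φ : G →* Eˣ` (not necessarily injective). -/
theorem podd_hom (h2 : IsUnit (2 : E)) (φ : G →* Eˣ) (K : Subgroup G) (a q : G)
    (hcomm : ∀ x ∈ K, ∀ y ∈ K, x * (a * y * a⁻¹) = (a * y * a⁻¹) * x)
    (hqa : q * a = a * q)
    (hquad : ((φ q : E) - 1) * ((φ q : E) - 1) = 0)
    (hqN : ∀ x ∈ K, q * x * q⁻¹ ∈ K) (hqN' : ∀ x ∈ K, q⁻¹ * x * q ∈ K)
    (hgen : K ≤ Subgroup.closure {u | ∃ x ∈ K, u = q⁻¹ * x⁻¹ * q * x})
    (hT4 : ((φ a : E) - 1) * ((φ q : E) - 1) = 0) :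
    ∀ g ∈ K, ∀ g' ∈ K, ∀ g'' ∈ K,
      ((φ g'' : E) - 1) * ((φ g' : E) - 1) * ((φ g : E) - 1) = 0 := by
  have key := podd_ring h2 (K.map φ) (φ a) (φ q) ?_ ?_ hquad ?_ ?_ ?_ hT4
  · intro g hg g' hg' g'' hg''
    exact key (φ g) ⟨g, hg, rfl⟩ (φ g') ⟨g', hg', rfl⟩ (φ g'') ⟨g'', hg'', rfl⟩
  · rintro _ ⟨x, hx, rfl⟩ _ ⟨y, hy, rfl⟩
    have := congrArg φ (hcomm x hx y hy)
    simpa using this
  · have := congrArg φ hqa
    simpa using this
  · rintro _ ⟨x, hx, rfl⟩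
    exact ⟨q * x * q⁻¹, hqN x hx, by simp⟩
  · rintro _ ⟨x, hx, rfl⟩
    exact ⟨q⁻¹ * x * q, hqN' x hx, by simp⟩
  · have h1 : K.map φ ≤ (Subgroup.closure {u | ∃ x ∈ K, u = q⁻¹ * x⁻¹ * q * x}).map φ :=
      Subgroup.map_mono hgen
    rw [MonoidHom.map_closure] at h1
    refine h1.trans (Subgroup.closure_mono ?_)
    rintro _ ⟨u, ⟨x, hx, rfl⟩, rfl⟩
    exact ⟨φ x, ⟨x, hx, rfl⟩, by simp⟩

/-- In characteristic `p ≥ 3` a unit `g` with `(g - 1)^3 = 0` satisfies `g ^ p = 1`. -/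
theorem pow_eq_one_of_cube (p : ℕ) [Fact p.Prime] [CharP E p] (hp : p ≠ 2) (g : Eˣ)
    (h : ((g : E) - 1) * ((g : E) - 1) * ((g : E) - 1) = 0) : g ^ p = 1 := by
  have hp3 : 3 ≤ p := by
    have := (Fact.out : p.Prime).two_le
    omega
  have h3 : ((g : E) - 1) ^ 3 = 0 := by rw [pow_succ, pow_two]; exact h
  have hpz : ((g : E) - 1) ^ p = 0 := by
    obtain ⟨k, rfl⟩ := Nat.exists_eq_add_of_le hp3
    rw [pow_add, h3, zero_mul]
  have hc : Commute ((g : E) - 1) (1 : E) := Commute.one_right _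
  have := add_pow_char_of_commute (p := p) hc
  rw [hpz, one_pow, zero_add, sub_add_cancel] at this
  apply Units.ext
  simpa using this

end Hom

section Module

variable {p : ℕ} [Fact p.Prime] {V : Type*} [AddCommGroup V] [Module (ZMod p) V]

/-- `2` is a unit of `End_{F_p}(V)` for `p` odd. -/
theorem isUnit_two_end (hp : p ≠ 2) : IsUnit (2 : Module.End (ZMod p) V) := by
  have h2 : IsUnit (2 : ZMod p) := by
    have hne : (2 : ZMod p) ≠ 0 := by
      intro h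
      have h' : ((2 : ℕ) : ZMod p) = 0 := by exact_mod_cast h
      rw [ZMod.natCast_eq_zero_iff] at h'
      have hpp := (Fact.out : p.Prime)
      exact hp ((Nat.prime_dvd_prime_iff_eq hpp Nat.prime_two).mp h')
    exact IsUnit.mk0 _ hne
  have h3 := h2.map (algebraMap (ZMod p) (Module.End (ZMod p) V))
  rwa [map_ofNat] at h3

/-- **PODD for a representation** (`G` abstract, `ρ` injective, as in the statement of S3086). -/
theorem podd_rep (hp : p ≠ 2) {G : Type*} [Group G]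
    (ρ : Representation (ZMod p) G V) (hρ : Function.Injective ρ)
    (K : Subgroup G) (a q : G)
    (hcomm : ∀ x ∈ K, ∀ y ∈ K, x * (a * y * a⁻¹) = (a * y * a⁻¹) * x)
    (hqa : q * a = a * q)
    (hquad : ∀ v, ρ q (ρ q v - v) = ρ q v - v)
    (hqN : ∀ x ∈ K, q * x * q⁻¹ ∈ K) (hqN' : ∀ x ∈ K, q⁻¹ * x * q ∈ K)
    (hgen : K ≤ Subgroup.closure {u | ∃ x ∈ K, u = q⁻¹ * x⁻¹ * q * x})
    (hT4 : ∀ v, ρ a (ρ q v - v) = ρ q v - v) :
    ∀ g ∈ K, g ^ p = 1 := by
  intro g hg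
  rcases subsingleton_or_nontrivial V with hV | hV
  · apply hρ
    apply LinearMap.ext
    intro v
    exact Subsingleton.elim _ _
  have : CharP (Module.End (ZMod p) V) p :=
    charP_of_injective_algebraMap (algebraMap (ZMod p) (Module.End (ZMod p) V)).injective p
  have key := podd_hom (isUnit_two_end (V := V) hp) (MonoidHom.toHomUnits ρ) K a q hcomm hqa ?_
    hqN hqN' hgen ?_ g hg g hg g hg
  · have h1 := pow_eq_one_of_cube p hp (MonoidHom.toHomUnits ρ g) key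
    rw [← map_pow] at h1
    have h2 : ρ (g ^ p) = ρ 1 := by
      have := congrArg (fun t : (Module.End (ZMod p) V)ˣ => (t : Module.End (ZMod p) V)) h1
      simpa using this
    exact hρ h2
  · apply LinearMap.ext
    intro v
    have := hquad v
    simp only [MonoidHom.coe_toHomUnits, Module.End.mul_apply, LinearMap.sub_apply,
      Module.End.one_apply, LinearMap.zero_apply]
    rw [map_sub] at this ⊢
    rw [sub_eq_zero]
    exact this
  · apply LinearMap.ext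
    intro v
    have := hT4 v
    simp only [MonoidHom.coe_toHomUnits, Module.End.mul_apply, LinearMap.sub_apply,
      Module.End.one_apply, LinearMap.zero_apply]
    rw [sub_eq_zero]
    exact this

/-- **PODD for a subgroup of `GL(V)`** (`V ≃ₗ[F_p] V`). -/
theorem podd_glin (hp : p ≠ 2)
    (K : Subgroup (V ≃ₗ[ZMod p] V)) (a q : V ≃ₗ[ZMod p] V)
    (hcomm : ∀ x ∈ K, ∀ y ∈ K, x * (a * y * a⁻¹) = (a * y * a⁻¹) * x)
    (hqa : q * a = a * q)
    (hquad : ∀ v, q (q v - v) = q v - v)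
    (hqN : ∀ x ∈ K, q * x * q⁻¹ ∈ K) (hqN' : ∀ x ∈ K, q⁻¹ * x * q ∈ K)
    (hgen : K ≤ Subgroup.closure {u | ∃ x ∈ K, u = q⁻¹ * x⁻¹ * q * x})
    (hT4 : ∀ v, a (q v - v) = q v - v) :
    ∀ g ∈ K, g ^ p = 1 := by
  refine podd_rep hp (LinearEquiv.automorphismGroup.toLinearMapMonoidHom (R := ZMod p) (M := V))
    ?_ K a q hcomm hqa hquad hqN hqN' hgen hT4
  intro x y hxy
  apply LinearEquiv.ext
  intro v
  have := congrArg (fun f : V →ₗ[ZMod p] V => f v) hxy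
  simpa using this

end Module

/-- A perfect finite `p`-subgroup is trivial. -/
theorem eq_bot_of_perfect_of_pow {G : Type*} [Group G] (p : ℕ) [Fact p.Prime]
    (K : Subgroup G) [Finite K] (hperf : ⁅K, K⁆ = K) (hpow : ∀ g ∈ K, g ^ p = 1) : K = ⊥ := by
  by_contra hne
  have hpg : IsPGroup p K := by
    intro g
    refine ⟨1, ?_⟩
    have := hpow g g.2
    apply Subtype.ext
    simpa using this
  have : Group.IsNilpotent K := hpg.isNilpotent
  have : Nontrivial K := (Subgroup.nontrivial_iff_ne_bot K).mpr hne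
  have hlt := Group.IsSolvable.commutator_lt_top_of_nontrivial K
  have h1 : (commutator K).map K.subtype = K := by
    rw [Subgroup.map_subtype_commutator]; exact hperf
  have h2 : commutator K = ⊤ := by
    apply Subgroup.map_injective K.subtype_injective
    rw [h1, ← MonoidHom.range_eq_map, Subgroup.range_subtype]
  exact (ne_of_lt hlt) h2

end Cfsg.Agent.Lib.Helper61.PGV
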