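import Mathlib

/-!
# Clifford's theorem for spans of groups of operators (step (E2) of helper26's proof of S3086)

`ρ : Representation k G W`, `W` finite.  For a set `S ⊆ G` let `adj ρ S` be the `k`-subalgebra of
`End_k(W)` generated by `ρ(S)`; `W` is a module over it.

* `isSimpleModule_adj_of_irreducible` : no proper nonzero `H`-invariant subspace ⟹ `W` simple over `adj ρ H`;
* `clifford` : `N ≤ H` normalized by `H`, `W` semisimple over `adj ρ H` ⟹ `W` semisimple over `adj ρ N`;
* `isSemisimpleRing_adj` : `W` semisimple over `adj ρ N` ⟹ `adj ρ N` is a semisimple ring.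
-/

set_option autoImplicit false

namespace Cfsg.Agent.Lib.Helper61.PGV

variable {k G W : Type*} [Field k] [Group G] [AddCommGroup W] [Module k W]

/-- The subalgebra of `End_k(W)` generated by `ρ(S)`. -/
abbrev adj (ρ : Representation k G W) (S : Set G) : Subalgebra k (Module.End k W) :=
  Algebra.adjoin k (ρ '' S)

theorem rho_mem_adj (ρ : Representation k G W) (S : Set G) {s : G} (hs : s ∈ S) :
    ρ s ∈ adj ρ S := Algebra.subset_adjoin ⟨s, hs, rfl⟩

theorem adj_mono (ρ : Representation k G W) {S T : Set G} (h : S ⊆ T) : adj ρ S ≤ adj ρ T :=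
  Algebra.adjoin_mono (Set.image_mono h)

/-- A `k`-subspace invariant under `ρ(S)` is invariant under `adj ρ S`. -/
theorem adj_apply_mem (ρ : Representation k G W) (S : Set G) (U : Submodule k W)
    (hU : ∀ s ∈ S, ∀ u ∈ U, ρ s u ∈ U) : ∀ ξ ∈ adj ρ S, ∀ u ∈ U, ξ u ∈ U := by
  intro ξ hξ
  induction hξ using Algebra.adjoin_induction with
  | mem x hx =>
    obtain ⟨s, hs, rfl⟩ := hx
    exact hU s hs
  | algebraMap r =>
    intro u hu
    rw [Module.algebraMap_end_apply]
    exact U.smul_mem r hu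
  | add x y _ _ hx hy =>
    intro u hu
    rw [LinearMap.add_apply]
    exact U.add_mem (hx u hu) (hy u hu)
  | mul x y _ _ hx hy =>
    intro u hu
    rw [Module.End.mul_apply]
    exact hx _ (hy u hu)

/-- The `adj ρ S`-submodule with the same carrier as an invariant `k`-subspace. -/
def toAdj (ρ : Representation k G W) (S : Set G) (U : Submodule k W)
    (hU : ∀ s ∈ S, ∀ u ∈ U, ρ s u ∈ U) : Submodule (adj ρ S) W where
  carrier := U
  add_mem' := U.add_mem
  zero_mem' := U.zero_mem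
  smul_mem' := fun ξ u hu => adj_apply_mem ρ S U hU ξ ξ.2 u hu

@[simp] theorem mem_toAdj (ρ : Representation k G W) (S : Set G) (U : Submodule k W)
    (hU : ∀ s ∈ S, ∀ u ∈ U, ρ s u ∈ U) (w : W) : w ∈ toAdj ρ S U hU ↔ w ∈ U := Iff.rfl

/-- Submodules over `adj ρ S` are invariant under `ρ s`, `s ∈ S`. -/
theorem rho_apply_mem (ρ : Representation k G W) (S : Set G) (X : Submodule (adj ρ S) W)
    {s : G} (hs : s ∈ S) {u : W} (hu : u ∈ X) : ρ s u ∈ X :=
  X.smul_mem (⟨ρ s, rho_mem_adj ρ S hs⟩ : adj ρ S) hu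

/-- `g` normalizes `S` (both ways). -/
def Nz (S : Set G) (g : G) : Prop :=
  (∀ s ∈ S, g⁻¹ * s * g ∈ S) ∧ (∀ s ∈ S, g * s * g⁻¹ ∈ S)

theorem Nz.inv {S : Set G} {g : G} (h : Nz S g) : Nz S g⁻¹ :=
  ⟨fun s hs => by simpa using h.2 s hs, fun s hs => by simpa using h.1 s hs⟩

/-- Translate of a submodule over `adj ρ S` by a normalizing element. -/
def tr (ρ : Representation k G W) (S : Set G) (g : G) (hg : Nz S g)
    (X : Submodule (adj ρ S) W) : Submodule (adj ρ S) W :=
  toAdj ρ S ((X.restrictScalars k).map (ρ g)) (by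
    rintro s hs _ ⟨x, hx, rfl⟩
    refine ⟨ρ (g⁻¹ * s * g) x, rho_apply_mem ρ S X (hg.1 s hs) hx, ?_⟩
    rw [← Module.End.mul_apply, ← map_mul]
    rw [← Module.End.mul_apply, ← map_mul]
    congr 2
    group)

theorem mem_tr (ρ : Representation k G W) (S : Set G) (g : G) (hg : Nz S g)
    (X : Submodule (adj ρ S) W) (w : W) : w ∈ tr ρ S g hg X ↔ ∃ x ∈ X, ρ g x = w := by
  simp [tr, Submodule.mem_map]

theorem tr_mono (ρ : Representation k G W) (S : Set G) (g : G) (hg : Nz S g)
    {X Y : Submodule (adj ρ S) W} (h : X ≤ Y) : tr ρ S g hg X ≤ tr ρ S g hg Y := by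
  intro w hw
  rw [mem_tr] at hw ⊢
  obtain ⟨x, hx, rfl⟩ := hw
  exact ⟨x, h hx, rfl⟩

theorem tr_inv_tr (ρ : Representation k G W) (S : Set G) (g : G) (hg : Nz S g)
    (X : Submodule (adj ρ S) W) : tr ρ S g⁻¹ hg.inv (tr ρ S g hg X) = X := by
  ext w
  rw [mem_tr]
  constructor
  · rintro ⟨y, hy, rfl⟩
    rw [mem_tr] at hy
    obtain ⟨x, hx, rfl⟩ := hy
    rw [← Module.End.mul_apply, ← map_mul, inv_mul_cancel, map_one]
    exact hx
  · intro hw
    refine ⟨ρ g w, (mem_tr ρ S g hg X _).mpr ⟨w, hw, rfl⟩, ?_⟩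
    rw [← Module.End.mul_apply, ← map_mul, inv_mul_cancel, map_one]
    rfl

/-- Translation as an order isomorphism of the submodule lattice. -/
def trIso (ρ : Representation k G W) (S : Set G) (g : G) (hg : Nz S g) :
    Submodule (adj ρ S) W ≃o Submodule (adj ρ S) W where
  toFun := tr ρ S g hg
  invFun := tr ρ S g⁻¹ hg.inv
  left_inv := tr_inv_tr ρ S g hg
  right_inv := fun X => by
    have := tr_inv_tr ρ S g⁻¹ hg.inv X
    simpa using this
  map_rel_iff' := by
    intro X Y
    constructor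
    · intro h
      have := tr_mono ρ S g⁻¹ hg.inv h
      simpa [tr_inv_tr] using this
    · exact fun h => tr_mono ρ S g hg h

theorem isSimple_tr (ρ : Representation k G W) (S : Set G) (g : G) (hg : Nz S g)
    (X : Submodule (adj ρ S) W) (hX : IsSimpleModule (adj ρ S) X) :
    IsSimpleModule (adj ρ S) (tr ρ S g hg X) := by
  rw [isSimpleModule_iff_isAtom] at hX ⊢
  exact ((trIso ρ S g hg).isAtom_iff X).mpr hX

/-- No proper nonzero invariant subspace ⟹ simple module over the span. -/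
theorem isSimpleModule_adj_of_irreducible [Nontrivial W] (ρ : Representation k G W) (S : Set G)
    (hirr : ∀ U : Submodule k W, (∀ s ∈ S, ∀ u ∈ U, ρ s u ∈ U) → U = ⊥ ∨ U = ⊤) :
    IsSimpleModule (adj ρ S) W := by
  have hne : (⊥ : Submodule (adj ρ S) W) ≠ ⊤ := by
    intro h
    obtain ⟨w, hw⟩ := exists_ne (0 : W)
    have h1 : w ∈ (⊤ : Submodule (adj ρ S) W) := Submodule.mem_top
    rw [← h] at h1
    exact hw ((Submodule.mem_bot _).mp h1)
  have hall : ∀ X : Submodule (adj ρ S) W, X = ⊥ ∨ X = ⊤ := by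
    intro X
    rcases hirr (X.restrictScalars k) (fun s hs u hu => rho_apply_mem ρ S X hs hu) with h | h
    · left
      rw [eq_bot_iff]
      intro w hw
      have h1 : w ∈ X.restrictScalars k := hw
      rw [h] at h1
      exact (Submodule.mem_bot _).mpr ((Submodule.mem_bot _).mp h1)
    · right
      rw [eq_top_iff]
      intro w _
      have h1 : w ∈ X.restrictScalars k := by rw [h]; exact Submodule.mem_top
      exact h1
  have hso : IsSimpleOrder (Submodule (adj ρ S) W) :=
    { exists_pair_ne := ⟨⊥, ⊤, hne⟩, eq_bot_or_eq_top := hall }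
  exact { toIsSimpleOrder := hso }

/-- The sum of the simple submodules is invariant under normalizing elements. -/
theorem tr_sSup_simples_le (ρ : Representation k G W) (S : Set G) (g : G) (hg : Nz S g) :
    tr ρ S g hg (sSup {m : Submodule (adj ρ S) W | IsSimpleModule (adj ρ S) m})
      ≤ sSup {m : Submodule (adj ρ S) W | IsSimpleModule (adj ρ S) m} := by
  have h2 : tr ρ S g hg (sSup {m : Submodule (adj ρ S) W | IsSimpleModule (adj ρ S) m})
      = (trIso ρ S g hg) (sSup {m : Submodule (adj ρ S) W | IsSimpleModule (adj ρ S) m}) := rfl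
  rw [h2, OrderIso.map_sSup]
  apply iSup₂_le
  intro m hm
  exact le_sSup (isSimple_tr ρ S g hg m hm)

/-- The sum of the translates of a submodule under a subgroup of normalizing elements. -/
def orbSum (ρ : Representation k G W) (S : Set G) (H : Subgroup G) (hH : ∀ h ∈ H, Nz S h)
    (U0 : Submodule (adj ρ S) W) : Submodule (adj ρ S) W :=
  ⨆ h : H, tr ρ S (h : G) (hH h h.2) U0

theorem le_orbSum (ρ : Representation k G W) (S : Set G) (H : Subgroup G) (hH : ∀ h ∈ H, Nz S h)
    (U0 : Submodule (adj ρ S) W) : U0 ≤ orbSum ρ S H hH U0 := by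
  refine le_trans ?_ (le_iSup _ (1 : H))
  intro x hx
  rw [mem_tr]
  exact ⟨x, hx, by simp⟩

theorem tr_orbSum_le (ρ : Representation k G W) (S : Set G) (H : Subgroup G)
    (hH : ∀ h ∈ H, Nz S h) (U0 : Submodule (adj ρ S) W) (h : G) (hh : h ∈ H) :
    tr ρ S h (hH h hh) (orbSum ρ S H hH U0) ≤ orbSum ρ S H hH U0 := by
  have h2 : tr ρ S h (hH h hh) (orbSum ρ S H hH U0)
      = (trIso ρ S h (hH h hh)) (orbSum ρ S H hH U0) := rfl
  rw [h2, orbSum, OrderIso.map_iSup]
  apply iSup_le
  intro h'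
  refine le_trans ?_ (le_iSup _ (⟨h * h', H.mul_mem hh h'.2⟩ : H))
  intro w hw
  have hw' : w ∈ tr ρ S h (hH h hh) (tr ρ S (h' : G) (hH h' h'.2) U0) := hw
  rw [mem_tr] at hw'
  obtain ⟨y, hy, rfl⟩ := hw'
  rw [mem_tr] at hy
  obtain ⟨x, hx, rfl⟩ := hy
  rw [mem_tr]
  refine ⟨x, hx, ?_⟩
  rw [map_mul, Module.End.mul_apply]

theorem orbSum_le_sSup (ρ : Representation k G W) (S : Set G) (H : Subgroup G)
    (hH : ∀ h ∈ H, Nz S h) (U0 : Submodule (adj ρ S) W) (hU0 : IsSimpleModule (adj ρ S) U0) :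
    orbSum ρ S H hH U0 ≤ sSup {m : Submodule (adj ρ S) W | IsSimpleModule (adj ρ S) m} := by
  apply iSup_le
  intro h
  exact le_sSup (isSimple_tr ρ S (h : G) (hH h h.2) U0 hU0)

theorem rho_mem_of_tr_le (ρ : Representation k G W) (S : Set G) (g : G) (hg : Nz S g)
    (X : Submodule (adj ρ S) W) (h : tr ρ S g hg X ≤ X) {u : W} (hu : u ∈ X) : ρ g u ∈ X :=
  h ((mem_tr ρ S g hg X _).mpr ⟨u, hu, rfl⟩)

/-- Key step: a simple submodule over the span of `H` lies (as a set) in the sum of the simple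
submodules over the span of `N`. -/
theorem simple_subset_sSup [Finite W] (ρ : Representation k G W) (N H : Subgroup G) (hNH : N ≤ H)
    (hNz : ∀ h ∈ H, Nz (N : Set G) h)
    (U' : Submodule (adj ρ (H : Set G)) W) (hU' : IsSimpleModule (adj ρ (H : Set G)) U')
    (w : W) (hw : w ∈ U') :
    w ∈ sSup {m : Submodule (adj ρ (N : Set G)) W | IsSimpleModule (adj ρ (N : Set G)) m} := by
  classical
  have hU'inv : ∀ n ∈ (N : Set G), ∀ u ∈ U'.restrictScalars k, ρ n u ∈ U'.restrictScalars k :=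
    fun n hn u hu => rho_apply_mem ρ (H : Set G) U' (hNH hn) hu
  have hUatom : IsAtom U' := isSimpleModule_iff_isAtom.mp hU'
  have hUAne : toAdj ρ (N : Set G) (U'.restrictScalars k) hU'inv ≠ ⊥ := by
    intro h
    apply hUatom.1
    rw [eq_bot_iff]
    intro x hx
    have h1 : x ∈ toAdj ρ (N : Set G) (U'.restrictScalars k) hU'inv := hx
    rw [h] at h1
    exact (Submodule.mem_bot _).mpr ((Submodule.mem_bot _).mp h1)
  obtain ⟨U0, hU0, hU0le⟩ := (eq_bot_or_exists_atom_le _).resolve_left hUAne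
  have hU0s : IsSimpleModule (adj ρ (N : Set G)) U0 := isSimpleModule_iff_isAtom.mpr hU0
  have hTU : ∀ x ∈ orbSum ρ (N : Set G) H hNz U0, x ∈ U' := by
    have : orbSum ρ (N : Set G) H hNz U0 ≤ toAdj ρ (N : Set G) (U'.restrictScalars k) hU'inv := by
      apply iSup_le
      intro h x hx
      rw [mem_tr] at hx
      obtain ⟨y, hy, rfl⟩ := hx
      exact rho_apply_mem ρ (H : Set G) U' h.2 (hU0le hy)
    exact fun x hx => this hx
  have hTinv : ∀ h ∈ (H : Set G), ∀ u ∈ (orbSum ρ (N : Set G) H hNz U0).restrictScalars k,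
      ρ h u ∈ (orbSum ρ (N : Set G) H hNz U0).restrictScalars k :=
    fun h hh u hu => rho_mem_of_tr_le ρ _ h (hNz h hh) _ (tr_orbSum_le ρ _ H hNz U0 h hh) hu
  have hT'le : toAdj ρ (H : Set G) ((orbSum ρ (N : Set G) H hNz U0).restrictScalars k) hTinv
      ≤ U' := fun x hx => hTU x hx
  have hT'ne : toAdj ρ (H : Set G) ((orbSum ρ (N : Set G) H hNz U0).restrictScalars k) hTinv
      ≠ ⊥ := by
    intro h
    apply hU0.1
    rw [eq_bot_iff]
    intro x hx
    have h3 : x ∈ toAdj ρ (H : Set G) ((orbSum ρ (N : Set G) H hNz U0).restrictScalars k) hTinv :=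
      le_orbSum ρ _ H hNz U0 hx
    rw [h] at h3
    exact (Submodule.mem_bot _).mpr ((Submodule.mem_bot _).mp h3)
  have hTU' : toAdj ρ (H : Set G) ((orbSum ρ (N : Set G) H hNz U0).restrictScalars k) hTinv
      = U' := by
    rcases lt_or_eq_of_le hT'le with hlt | heq
    · exact absurd (hUatom.2 _ hlt) hT'ne
    · exact heq
  rw [← hTU'] at hw
  exact orbSum_le_sSup ρ _ H hNz U0 hU0s hw

/-- **Clifford.**  `N ≤ H`, `H` normalizes `N`, `W` finite and semisimple over the span of `H`:
then `W` is semisimple over the span of `N`. -/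
theorem clifford [Finite W] (ρ : Representation k G W) (N H : Subgroup G) (hNH : N ≤ H)
    (hnorm : ∀ h ∈ H, ∀ n ∈ N, h * n * h⁻¹ ∈ N)
    (hss : IsSemisimpleModule (adj ρ (H : Set G)) W) :
    IsSemisimpleModule (adj ρ (N : Set G)) W := by
  have hNz : ∀ h ∈ H, Nz (N : Set G) h := by
    intro h hh
    refine ⟨fun n hn => ?_, fun n hn => hnorm h hh n hn⟩
    have := hnorm h⁻¹ (H.inv_mem hh) n hn
    simpa using this
  apply IsSemisimpleModule.of_sSup_simples_eq_top
  -- P is H-invariant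
  have hPinv : ∀ h ∈ (H : Set G), ∀ u ∈ (sSup {m : Submodule (adj ρ (N : Set G)) W |
      IsSimpleModule (adj ρ (N : Set G)) m}).restrictScalars k,
      ρ h u ∈ (sSup {m : Submodule (adj ρ (N : Set G)) W |
      IsSimpleModule (adj ρ (N : Set G)) m}).restrictScalars k :=
    fun h hh u hu => rho_mem_of_tr_le ρ _ h (hNz h hh) _ (tr_sSup_simples_le ρ _ h (hNz h hh)) hu
  have htop : toAdj ρ (H : Set G) _ hPinv = ⊤ := by
    rw [eq_top_iff, ← IsSemisimpleModule.sSup_simples_eq_top (adj ρ (H : Set G)) W]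
    exact sSup_le fun U' hU' x hx => simple_subset_sSup ρ N H hNH hNz U' hU' x hx
  rw [eq_top_iff]
  intro w _
  have h1 : w ∈ toAdj ρ (H : Set G) _ hPinv := by rw [htop]; exact Submodule.mem_top
  exact h1

/-- A subalgebra of `End_k(W)` over which the finite module `W` is semisimple is a semisimple ring. -/
theorem isSemisimpleRing_of_subalgebra [Finite W] (A : Subalgebra k (Module.End k W))
    (hss : IsSemisimpleModule A W) : IsSemisimpleRing A := by
  let f : A →ₗ[A] (W → W) := LinearMap.pi fun w => LinearMap.toSpanSingleton A W w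
  have hf : Function.Injective f := by
    intro x y hxy
    apply Subtype.ext
    apply LinearMap.ext
    intro w
    have h1 := congrFun hxy w
    exact h1
  exact IsSemisimpleModule.of_injective f hf

theorem isSemisimpleRing_adj [Finite W] (ρ : Representation k G W) (S : Set G)
    (hss : IsSemisimpleModule (adj ρ S) W) : IsSemisimpleRing (adj ρ S) :=
  isSemisimpleRing_of_subalgebra _ hss

/-- **(E2) in one call.**  `K ≤ M ≤ H`, `M` normalizes `K`, `H` normalizes `M`, and `W` (finite, nonzero)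
has no proper nonzero `H`-invariant subspace: then `W` is semisimple over the span of `K` and that span
is a semisimple ring. -/
theorem semisimple_of_subnormal_two [Finite W] [Nontrivial W] (ρ : Representation k G W)
    (K M H : Subgroup G) (hKM : K ≤ M) (hMH : M ≤ H)
    (hK : ∀ m ∈ M, ∀ x ∈ K, m * x * m⁻¹ ∈ K) (hM : ∀ h ∈ H, ∀ m ∈ M, h * m * h⁻¹ ∈ M)
    (hirr : ∀ U : Submodule k W, (∀ h ∈ H, ∀ u ∈ U, ρ h u ∈ U) → U = ⊥ ∨ U = ⊤) :
    IsSemisimpleModule (adj ρ (K : Set G)) W ∧ IsSemisimpleRing (adj ρ (K : Set G)) := by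
  have h1 : IsSimpleModule (adj ρ (H : Set G)) W :=
    isSimpleModule_adj_of_irreducible ρ (H : Set G) hirr
  have h2 : IsSemisimpleModule (adj ρ (H : Set G)) W := inferInstance
  have h3 := clifford ρ M H hMH hM h2
  have h4 := clifford ρ K M hKM hK h3
  exact ⟨h4, isSemisimpleRing_adj ρ _ h4⟩

end Cfsg.Agent.Lib.Helper61.PGV
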