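import Mathlib

/-!
# Fixed points of a family of semilinear maps (used in (E10) of helper26's proof of S3086)

`F` a finite field, `U` a finite `F`-vector space, `f i : U →+ U` additive maps, each `σ i`-semilinear
for a ring endomorphism `σ i` of `F`; `F1` the subfield of common fixed points of the `σ i`.
Then `F1`-linearly independent common fixed vectors are `F`-linearly independent, hence
`|Fix| ^ [F : F1] ≤ |U|`.
-/

set_option autoImplicit false

namespace Cfsg.Agent.Lib.Helper61.PGV

section

variable {F U ι : Type*} [Field F] [AddCommGroup U] [Module F U]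

/-- The common fixed vectors of a semilinear family, as an `F1`-submodule. -/
def fixSub (f : ι → U →+ U) (σ : ι → F →+* F)
    (hsl : ∀ i c u, f i (c • u) = σ i c • f i u)
    (F1 : Subfield F) (hF1 : ∀ c, c ∈ F1 → ∀ i, σ i c = c) : Submodule F1 U where
  carrier := {u | ∀ i, f i u = u}
  add_mem' := by
    intro x y hx hy i
    rw [map_add, hx i, hy i]
  zero_mem' := by
    intro i
    exact map_zero _
  smul_mem' := by
    intro c x hx i
    show f i ((c : F) • x) = (c : F) • x
    rw [hsl, hF1 c c.2 i, hx i]

theorem mem_fixSub (f : ι → U →+ U) (σ : ι → F →+* F)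
    (hsl : ∀ i c u, f i (c • u) = σ i c • f i u)
    (F1 : Subfield F) (hF1 : ∀ c, c ∈ F1 → ∀ i, σ i c = c) (u : U) :
    u ∈ fixSub f σ hsl F1 hF1 ↔ ∀ i, f i u = u := Iff.rfl

/-- `F1`-independent common fixed vectors are `F`-independent (Galois descent, injectivity). -/
theorem linearIndependent_of_fixed (f : ι → U →+ U) (σ : ι → F →+* F)
    (hsl : ∀ i c u, f i (c • u) = σ i c • f i u)
    (F1 : Subfield F) (hF1 : ∀ c, c ∈ F1 ↔ ∀ i, σ i c = c)
    {J : Type*} (v : J → U) (hv : ∀ j i, f i (v j) = v j)
    (hind : LinearIndependent F1 v) : LinearIndependent F v := by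
  classical
  rw [linearIndependent_iff']
  -- strong induction on the size of the support finset
  have key : ∀ n : ℕ, ∀ s : Finset J, s.card = n → ∀ g : J → F,
      ∑ j ∈ s, g j • v j = 0 → ∀ j ∈ s, g j = 0 := by
    intro n
    induction n using Nat.strong_induction_on with
    | _ n ih =>
      intro s hs g hg
      by_contra hne
      simp only [not_forall] at hne
      obtain ⟨j0, hj0, hgj0⟩ := hne
      -- normalise
      set c : J → F := fun j => (g j0)⁻¹ * g j with hc
      have hc0 : c j0 = 1 := by simp [hc, hgj0]
      have hcsum : ∑ j ∈ s, c j • v j = 0 := by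
        have : ∑ j ∈ s, c j • v j = (g j0)⁻¹ • ∑ j ∈ s, g j • v j := by
          rw [Finset.smul_sum]
          refine Finset.sum_congr rfl fun j _ => ?_
          rw [hc, mul_smul]
        rw [this, hg, smul_zero]
      -- all c j are fixed by all σ i
      have hfix : ∀ i, ∀ j ∈ s, σ i (c j) = c j := by
        intro i
        have h1 : ∑ j ∈ s, σ i (c j) • v j = 0 := by
          have := congrArg (f i) hcsum
          rw [map_sum, map_zero] at this
          rw [← this]
          refine Finset.sum_congr rfl fun j _ => ?_
          rw [hsl, hv]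
        have h2 : ∑ j ∈ s.erase j0, (σ i (c j) - c j) • v j = 0 := by
          have h3 : ∑ j ∈ s, (σ i (c j) - c j) • v j = 0 := by
            simp only [sub_smul, Finset.sum_sub_distrib, h1, hcsum, sub_zero]
          rw [← Finset.add_sum_erase s _ hj0] at h3
          rw [hc0, map_one, sub_self, zero_smul, zero_add] at h3
          exact h3
        have hcard : (s.erase j0).card < n := by
          rw [Finset.card_erase_of_mem hj0, hs]
          have : 0 < s.card := Finset.card_pos.mpr ⟨j0, hj0⟩
          omega
        have h4 := ih _ hcard (s.erase j0) rfl (fun j => σ i (c j) - c j) h2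
        intro j hj
        by_cases hjj : j = j0
        · rw [hjj, hc0, map_one]
        · exact sub_eq_zero.mp (h4 j (Finset.mem_erase.mpr ⟨hjj, hj⟩))
      -- so the c j (j ∈ s) lie in F1
      have hmem : ∀ j ∈ s, c j ∈ F1 := fun j hj => (hF1 (c j)).mpr fun i => hfix i j hj
      -- F1-independence
      rw [linearIndependent_iff'] at hind
      have h5 := hind s (fun j => if h : j ∈ s then (⟨c j, hmem j h⟩ : F1) else 0) ?_ j0 hj0
      · rw [dif_pos hj0] at h5
        have : c j0 = 0 := congrArg Subtype.val h5
        rw [hc0] at this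
        exact one_ne_zero this
      · rw [← hcsum]
        refine Finset.sum_congr rfl fun j hj => ?_
        rw [dif_pos hj]
        rfl
  intro s g hg j hj
  exact key s.card s rfl g hg j hj

/-- **Semilinear fixed points.** `|Fix| ^ [F : F1] ≤ |U|`. -/
theorem card_fixed_pow_le [Finite F] [Finite U] (f : ι → U →+ U) (σ : ι → F →+* F)
    (hsl : ∀ i c u, f i (c • u) = σ i c • f i u)
    (F1 : Subfield F) (hF1 : ∀ c, c ∈ F1 ↔ ∀ i, σ i c = c) :
    Nat.card {u : U // ∀ i, f i u = u} ^ Module.finrank F1 F ≤ Nat.card U := by
  classical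
  have hF1' : ∀ c, c ∈ F1 → ∀ i, σ i c = c := fun c hc => (hF1 c).mp hc
  set U0 : Submodule F1 U := fixSub f σ hsl F1 hF1' with hU0
  have hcard0 : Nat.card {u : U // ∀ i, f i u = u} = Nat.card U0 := rfl
  rw [hcard0]
  let _ : Fintype F := Fintype.ofFinite F
  let _ : Fintype U := Fintype.ofFinite U
  let _ : Fintype F1 := Fintype.ofFinite F1
  let _ : Fintype U0 := Fintype.ofFinite U0
  have hfin : Module.Finite F1 U0 := Module.Finite.of_finite
  -- basis of U0 over F1
  let b := Module.finBasis F1 U0
  have hli : LinearIndependent F (fun j => ((b j : U0) : U)) := by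
    refine linearIndependent_of_fixed f σ hsl F1 hF1 _ (fun j i => (b j).2 i) ?_
    have h1 : LinearIndependent F1 (fun j => (b j : U0)) := b.linearIndependent
    exact h1.map' U0.subtype (Submodule.ker_subtype U0)
  have hle : Module.finrank F1 U0 ≤ Module.finrank F U := by
    have := hli.fintype_card_le_finrank
    simpa using this
  have c1 : Nat.card U0 = Nat.card F1 ^ Module.finrank F1 U0 := by
    rw [Nat.card_eq_fintype_card, Nat.card_eq_fintype_card]
    exact Module.card_eq_pow_finrank
  have c2 : Nat.card U = Nat.card F ^ Module.finrank F U := by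
    rw [Nat.card_eq_fintype_card, Nat.card_eq_fintype_card]
    exact Module.card_eq_pow_finrank
  have c3 : Nat.card F = Nat.card F1 ^ Module.finrank F1 F := by
    rw [Nat.card_eq_fintype_card, Nat.card_eq_fintype_card]
    exact Module.card_eq_pow_finrank
  rw [c1, c2, c3, ← pow_mul, ← pow_mul]
  have hpos : 0 < Nat.card F1 := Nat.card_pos
  refine Nat.pow_le_pow_right hpos ?_
  rw [mul_comm]
  exact Nat.mul_le_mul_left _ hle

/-- **Semilinear fixed points, group form.**  `B` acts on `U` by additive maps `f b`, `σ b`-semilinear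
for a homomorphism `σ : B →* RingAut F`.  Then `|Fix_B(U)| ^ |σ(B)| ≤ |U|`. -/
theorem card_fixed_pow_le_of_hom [Finite F] [Finite U] {B : Type*} [Group B]
    (f : B → U →+ U) (σ : B →* RingAut F)
    (hsl : ∀ b c u, f b (c • u) = σ b c • f b u) :
    Nat.card {u : U // ∀ b, f b u = u} ^ Nat.card σ.range ≤ Nat.card U := by
  classical
  have hfinA : Finite (RingAut F) :=
    Finite.of_injective (fun e : F ≃+* F => (e : F → F)) DFunLike.coe_injective
  let _ : Fintype σ.range := Fintype.ofFinite _
  have hart : Module.finrank (FixedPoints.subfield σ.range F) F = Fintype.card σ.range :=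
    FixedPoints.finrank_eq_card σ.range F
  have h := card_fixed_pow_le f (fun b => ((σ b : F ≃+* F) : F →+* F)) hsl
    (FixedPoints.subfield σ.range F) ?_
  · rw [hart, ← Nat.card_eq_fintype_card] at h
    exact h
  · intro c
    constructor
    · intro hc b
      exact hc ⟨σ b, b, rfl⟩
    · intro hc
      rintro ⟨_, b, rfl⟩
      exact hc b

end

end Cfsg.Agent.Lib.Helper61.PGV
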